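import Groth.Agent.EtTateLib.Basic
import Groth.Agent.EtShLib.RestrNat
import Groth.Agent.EtShLib.JContAll
import Groth.Agent.EtSliceLib.Basic
import Groth.Agent.EtSplitLib.Sites

/-!
# Tate twists commute with restriction along étale morphisms
-/

set_option autoImplicit false
set_option linter.style.haveILetI false
set_option linter.unusedSectionVars false
set_option backward.isDefEq.respectTransparency false
set_option backward.isDefEq.respectTransparency.types false
set_option synthInstance.maxHeartbeats 400000
set_option maxHeartbeats 1000000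

universe u

open CategoryTheory CategoryTheory.Limits AlgebraicGeometry Opposite Groth.Agent.EtShLib TensorProduct

noncomputable section

namespace EtTateLib

variable {X' X : Scheme.{u}} (f : X' ⟶ X) [AlgebraicGeometry.Etale f]

instance isCocontinuous_compEtale :
    (EtShriek.compEtale f).IsCocontinuous X'.smallEtaleTopology X.smallEtaleTopology where
  cover_lift {V} S hS := by
    rw [show X'.smallEtaleTopology = (X'.smallPretopology (P := EtCoh.etaleMP) (Q := EtCoh.etaleMP)).toGrothendieck from
      Scheme.smallGrothendieckTopology_eq_toGrothendieck_smallPretopology X' le_rfl]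
    refine (Scheme.mem_toGrothendieck_smallPretopology V _).2 fun x => ?_
    obtain ⟨T, t, y, ht, hy⟩ := EtSplitLib.exists_local _ hS x
    let L := EtShriek.compEtaleLift f t
    haveI : AlgebraicGeometry.Etale L.1.hom := L.1.prop
    let g : L.1 ⟶ V := MorphismProperty.Over.homMk t.left (by rfl)
    refine ⟨L.1, g, y, ?_, ?_, hy⟩
    · have he : (EtShriek.compEtale f).map g = L.2.hom ≫ t :=
        MorphismProperty.Over.Hom.ext (Category.id_comp _).symm
      show S.arrows _
      rw [he]
      exact S.downward_closed ht _
    · exact EtCoh.etaleMP.of_postcomp (W' := EtCoh.etaleMP) g.left V.hom V.prop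
        (by rw [MorphismProperty.Over.w g]; exact L.1.prop)

variable [EtShriek.JCont f]

/-- Functoriality of the tensor presheaf in isomorphisms. -/
def tensorPreIso {F F' G G' : EtCoh.Ab X} (e : F ≅ F') (e' : G ≅ G') :
    EtDual.tensorPre F G ≅ EtDual.tensorPre F' G' :=
  NatIso.ofComponents (fun W =>
    (TensorProduct.congr ((sheafToPresheaf _ _ ⋙ (evaluation _ _).obj W).mapIso e).addCommGroupIsoToAddEquiv.toIntLinearEquiv
      ((sheafToPresheaf _ _ ⋙ (evaluation _ _).obj W).mapIso e').addCommGroupIsoToAddEquiv.toIntLinearEquiv).toAddEquiv.toAddCommGrpIso)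
    (fun {W W'} g => by
      refine ConcreteCategory.hom_ext _ _ fun x => ?_
      refine TensorProduct.induction_on x ?_ (fun s t => ?_) fun x y hx hy => ?_
      · rw [map_zero, map_zero]
      · exact congrArg₂ (fun a b => a ⊗ₜ[ℤ] b) (NatTrans.naturality_apply e.hom.hom g s)
          (NatTrans.naturality_apply e'.hom.hom g t)
      · rw [map_add, map_add, hx, hy])

/-- Restriction commutes with tensor products. -/
def restrTensorIso (F G : EtCoh.Ab X) :
    (EtShriek.restrAlong f).obj (EtDual.tensorAb F G) ≅
      EtDual.tensorAb ((EtShriek.restrAlong f).obj F) ((EtShriek.restrAlong f).obj G) :=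
  (((EtShriek.compEtale f).pushforwardContinuousSheafificationCompatibility AddCommGrpCat.{u + 1}
    X'.smallEtaleTopology X.smallEtaleTopology).app (EtDual.tensorPre F G)).symm

theorem nonempty_pull_tate_iso (n : ℕ) :
    ∀ d : ℕ, Nonempty ((EtShriek.restrAlong f).obj (EtDual.tate X n d) ≅ EtDual.tate X' n d)
  | 0 => by
    haveI : IsIso (restrTheta f) := isIso_restrTheta f
    haveI : IsIso ((restrTheta f).app (EtCoh.const X (ZMod n))) := NatIso.isIso_app_of_isIso (restrTheta f) _
    exact ⟨(asIso ((restrTheta f).app (EtCoh.const X (ZMod n)))).symm ≪≫ EtCore.pullConst f (ZMod n)⟩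
  | d + 1 => by
    obtain ⟨e⟩ := nonempty_pull_tate_iso n d
    haveI : PreservesFiniteLimits (EtShriek.restrAlong f) :=
      haveI : PreservesLimitsOfSize.{0, 0} (EtShriek.restrAlong f) :=
        (EtShriek.extZeroAdj f).rightAdjoint_preservesLimits
      PreservesLimitsOfSize.preservesFiniteLimits _
    haveI : (EtShriek.restrAlong f).Additive := ⟨fun {_ _ _ _} => rfl⟩
    have hp : (EtShriek.restrAlong f).map (EtCoh.powMap X n) = EtCoh.powMap X' n := by
      show (EtShriek.restrAlong f).map (n • 𝟙 (EtCoh.Gm X)) = n • 𝟙 (EtCoh.Gm X')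
      rw [Functor.map_nsmul, CategoryTheory.Functor.map_id]
      rfl
    let em : (EtShriek.restrAlong f).obj (EtCoh.mu X n) ≅ EtCoh.mu X' n :=
      PreservesKernel.iso (EtShriek.restrAlong f) (EtCoh.powMap X n) ≪≫
        kernel.mapIso _ (EtCoh.powMap X' n) (Iso.refl _) (Iso.refl _) (by
          exact (Category.comp_id _).trans (hp.trans (Category.id_comp _).symm))
    exact ⟨restrTensorIso f (EtDual.tate X n d) (EtCoh.mu X n) ≪≫
      (presheafToSheaf X'.smallEtaleTopology AddCommGrpCat.{u + 1}).mapIso (tensorPreIso e em)⟩

end EtTateLib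

end
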